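import Groth.Agent.FF.Conorm
import Groth.Agent.FF.RH
import Groth.Agent.FF.Clifford
import Groth.Agent.CurveFF.Pencil

/-!
# The Castelnuovo–Severi inequality for two double covers
-/

set_option autoImplicit false
set_option linter.style.haveILetI false
set_option maxHeartbeats 1000000

noncomputable section

namespace Groth.Agent.CastSeveriLib

open FunFld
open scoped WithZero IntermediateField

universe u v

variable {k : Type u} [Field k] [IsAlgClosed k]

section Pencil

variable {K₂ : Type v} [Field K₂] [Algebra k K₂]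

/-- A pencil of degree `g + 1` outside a proper subfield, away from a given place. -/
theorem exists_notMem (hK : IsFunctionField k K₂) (S : IntermediateField k K₂) (hS : S ≠ ⊤) (P₂ : Place k K₂) :
    ∃ (E : Divisor k K₂) (y : K₂), 0 ≤ E ∧ E P₂ = 0 ∧ E.deg = genus k K₂ + 1 ∧ y ∈ L E ∧ y ∉ S := by
  classical
  haveI := FF.infinite_places hK
  by_contra hno
  push Not at hno
  obtain ⟨C, hC⟩ := FF.exists_canonical hK
  have hpen : ∀ E : Divisor k K₂, E.deg = genus k K₂ + 1 → ∃ y ∈ L E, y ∉ Set.range (algebraMap k K₂) := fun E hE => by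
    have h := FF.riemann_roch hK hC E
    exact CurveFF.exists_nonconstant hK (D := E) (by omega)
  obtain ⟨P₀, hP₀⟩ := FF.exists_place_ne hK P₂
  set m := genus k K₂ + 1
  have hd0 : Divisor.deg (Finsupp.single P₀ (m : ℤ) : Divisor k K₂) = genus k K₂ + 1 := by
    rw [FF.deg_single_ac hK]; simp [m]
  obtain ⟨y₀, hy₀, hy₀c⟩ := hpen _ hd0
  have hy₀S : y₀ ∈ S := hno _ y₀ (Finsupp.single_nonneg.2 (Int.natCast_nonneg _)) (Finsupp.single_eq_of_ne hP₀.symm) hd0 hy₀
  have hy₀t : Transcendental k y₀ := fun h => hy₀c (hK.2 y₀ h)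
  haveI := FF.finiteDimensional_adjoin hK hy₀t
  have hle : k⟮y₀⟯ ≤ S := by
    rw [IntermediateField.adjoin_le_iff, Set.singleton_subset_iff]; exact hy₀S
  letI : Algebra k⟮y₀⟯ S := (IntermediateField.inclusion hle).toRingHom.toAlgebra
  haveI : IsScalarTower k⟮y₀⟯ S K₂ := IsScalarTower.of_algebraMap_eq fun x => rfl
  haveI : FiniteDimensional S K₂ := Module.Finite.of_restrictScalars_finite k⟮y₀⟯ S K₂
  have hKS := FF.isFunctionField_intermediate hK S
  haveI := FF.infinite_places hKS
  obtain ⟨S₀, hS₀⟩ := FF.exists_isOver (K' := K₂) hKS P₂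
  obtain ⟨T', hT'⟩ := Infinite.exists_subset_card_eq (Place k S) (m + 1)
  obtain ⟨T, hTs, hT⟩ := Finset.exists_subset_card_eq (s := T'.erase S₀) (n := m) (by
    have := Finset.pred_card_le_card_erase (s := T') (a := S₀)
    omega)
  choose q hq using fun P : Place k S => FF.exists_over (K' := K₂) hKS (P := P)
  have hqi : Function.Injective q := fun P P' h => FF.place_below_unique (hq P) (h ▸ hq P')
  let U := T.image q
  let E : Divisor k K₂ := ∑ Q ∈ U, Finsupp.single Q 1
  have hEap : ∀ Q, E Q = if Q ∈ U then 1 else 0 := fun Q => by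
    simp only [E, Finsupp.finsetSum_apply, Finsupp.single_apply, Finset.sum_ite_eq']
  have hE0 : 0 ≤ E := Finset.sum_nonneg fun _ _ => Finsupp.single_nonneg.2 zero_le_one
  have hEd : E.deg = genus k K₂ + 1 := by
    have key : ∀ W : Finset (Place k K₂), (∑ Q ∈ W, Finsupp.single Q 1 : Divisor k K₂).deg = W.card := by
      intro W
      induction W using Finset.induction with
      | empty => simp [FF.deg_zero]
      | insert Q W hQ ih =>
        rw [Finset.sum_insert hQ, FF.deg_add, ih, FF.deg_single_ac hK, Finset.card_insert_of_notMem hQ]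
        push_cast
        ring
    rw [key U, Finset.card_image_of_injective _ hqi, hT]
    simp [m]
  have hEP : E P₂ = 0 := by
    rw [hEap, if_neg]
    intro hU
    obtain ⟨P', hP', he⟩ := Finset.mem_image.1 hU
    exact (Finset.mem_erase.1 (hTs hP')).1 (FF.place_below_unique (he ▸ hq P') hS₀)
  obtain ⟨y, hy, hyc⟩ := hpen E hEd
  have hyS : y ∈ S := hno E y hE0 hEP hEd hy
  let s : S := ⟨y, hyS⟩
  have hst : Transcendental k s⁻¹ := fun h => by
    refine hyc (hK.2 y ?_)
    have h2 := (h.algebraMap (A := K₂)).inv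
    rwa [map_inv₀, inv_inv] at h2
  obtain ⟨P, hP⟩ := FF.exists_zero hKS hst
  have hs0 : s ≠ 0 := fun e => hyc ⟨0, by rw [map_zero]; exact (congrArg Subtype.val e).symm⟩
  have hPo : P.ord s < 0 := by
    have h1 : 1 < P.1 s := by
      rw [map_inv₀] at hP
      exact (inv_lt_one₀ (zero_lt_iff.2 (P.1.ne_zero_iff.2 hs0))).1 hP
    rw [Place.ord, neg_lt_zero]
    exact (WithZero.lt_log_iff_exp_lt (P.1.ne_zero_iff.2 hs0)).2 (by simpa using h1)
  have hy0 : y ≠ 0 := fun e => hs0 (Subtype.ext e)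
  have hpole : ∀ Q : Place k K₂, IsOver Q P → ramIdx Q P = 1 ∧ Q = q P := fun Q hQ => by
    have h1 := (FF.mem_L_iff_ord hy0).1 hy Q
    have he := FF.isOverWith_ramIdx hQ
    have h2 : Q.ord y = ramIdx Q P * P.ord s := FF.ord_of_isOverWith he s
    have h3 := FF.pos_of_isOverWith he
    have h4 : (ramIdx Q P : ℤ) * P.ord s ≤ (ramIdx Q P : ℤ) * (-1) :=
      mul_le_mul_of_nonneg_left (by omega) (Int.natCast_nonneg _)
    rw [hEap] at h1
    split_ifs at h1 with hU
    · refine ⟨by omega, ?_⟩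
      obtain ⟨P', -, rfl⟩ := Finset.mem_image.1 hU
      rw [FF.place_below_unique (hq P') hQ]
    · omega
  have hcon : conorm K₂ (Finsupp.single P (1 : ℤ)) = Finsupp.single (q P) 1 := by
    ext Q
    obtain ⟨P', hP'⟩ := FF.exists_isOver hKS Q
    rw [FF.conorm_apply hKS _ hP']
    rcases eq_or_ne P' P with rfl | hne
    · obtain ⟨h1, h2⟩ := hpole Q hP'
      rw [h1, ← h2, Finsupp.single_eq_same, Finsupp.single_eq_same]
      simp
    · have hQ : Q ≠ q P := fun e => hne (FF.place_below_unique hP' (e ▸ hq P))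
      rw [Finsupp.single_eq_of_ne hne, Finsupp.single_eq_of_ne hQ, mul_zero]
  have hdeg := FF.deg_conorm (K' := K₂) hKS (Finsupp.single P (1 : ℤ))
  rw [hcon, FF.deg_single_ac hK, FF.deg_single_ac hKS, mul_one] at hdeg
  refine hS (eq_top_iff.2 fun x _ => ?_)
  have hfr : Module.finrank S K₂ = 1 := by omega
  obtain ⟨c, hc⟩ := (finrank_eq_one_iff_of_nonzero' (1 : K₂) one_ne_zero).1 hfr x
  rw [← hc, Algebra.smul_def, mul_one]
  exact c.2

end Pencil

variable (k) (K₁ K₂ K : Type v) [Field K] [Field K₁] [Field K₂] [Algebra k K] [Algebra k K₁] [Algebra k K₂]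
  [Algebra K₁ K] [Algebra K₂ K] [IsScalarTower k K₁ K] [IsScalarTower k K₂ K]

/-- The common part of the two subfields, inside the second. -/
def inter : IntermediateField k K₂ :=
  (IsScalarTower.toAlgHom k K₁ K).fieldRange.comap (IsScalarTower.toAlgHom k K₂ K)

variable {k K₁ K₂ K} [FiniteDimensional K₁ K] [FiniteDimensional K₂ K]

omit [IsAlgClosed k] in
theorem inter_ne_top (d₁ : Module.finrank K₁ K = 2) (d₂ : Module.finrank K₂ K = 2)
    (hne : (IsScalarTower.toAlgHom k K₁ K).fieldRange ≠ (IsScalarTower.toAlgHom k K₂ K).fieldRange) :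
    inter k K₁ K₂ K ≠ ⊤ := by
    classical
    set f₁ := IsScalarTower.toAlgHom k K₁ K
    set f₂ := IsScalarTower.toAlgHom k K₂ K
    intro htop
    have hle : f₂.fieldRange ≤ f₁.fieldRange := by
      rintro _ ⟨x, rfl⟩
      exact (show x ∈ inter k K₁ K₂ K by rw [htop]; trivial)
    refine hne ?_
    -- the smaller field already has index two
    symm
    let g : K₂ →ₐ[k] K₁ :=
      ((AlgEquiv.ofInjectiveField f₁).symm.toAlgHom).comp ((IntermediateField.inclusion hle).comp f₂.rangeRestrict)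
    have hg : ∀ x, algebraMap K₁ K (g x) = algebraMap K₂ K x := fun x =>
      congrArg Subtype.val ((AlgEquiv.ofInjectiveField f₁).apply_symm_apply
        ((IntermediateField.inclusion hle) (f₂.rangeRestrict x)))
    letI : Algebra K₂ K₁ := g.toRingHom.toAlgebra
    haveI : IsScalarTower K₂ K₁ K := IsScalarTower.of_algebraMap_eq fun x => (hg x).symm
    haveI : FiniteDimensional K₂ K₁ := Module.Finite.left K₂ K₁ K
    have h := Module.finrank_mul_finrank K₂ K₁ K
    rw [d₁, d₂] at h
    have hb : Module.finrank K₂ K₁ = 1 := by omega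
    refine le_antisymm hle ?_
    rintro _ ⟨x, rfl⟩
    obtain ⟨c, hc⟩ := (finrank_eq_one_iff_of_nonzero' (1 : K₁) one_ne_zero).1 hb x
    refine ⟨c, ?_⟩
    rw [← hc, Algebra.smul_def, mul_one]
    exact (hg c).symm

/-- Conorm preserves Riemann–Roch spaces. -/
theorem mem_conorm {F : Type v} [Field F] [Algebra k F] [Algebra F K] [IsScalarTower k F K] [FiniteDimensional F K]
    (hF : IsFunctionField k F) {D : Divisor k F} {a : F} (ha : a ∈ L D) : algebraMap F K a ∈ L (conorm K D) := by
  rcases eq_or_ne a 0 with rfl | ha0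
  · rw [map_zero]; exact zero_mem _
  · refine (FF.mem_L_iff_ord ((_root_.map_ne_zero _).2 ha0)).2 fun Q => ?_
    obtain ⟨P', hP'⟩ := FF.exists_isOver hF Q
    rw [FF.conorm_apply hF _ hP', FF.ord_of_isOverWith (FF.isOverWith_ramIdx hP'), ← mul_add]
    exact mul_nonneg (Int.natCast_nonneg _) ((FF.mem_L_iff_ord ha0).1 ha P')

omit [IsAlgClosed k] in
theorem conorm_nonneg {F : Type v} [Field F] [Algebra k F] [Algebra F K] [IsScalarTower k F K] [FiniteDimensional F K]
    (hF : IsFunctionField k F) {D : Divisor k F} (hD : 0 ≤ D) : 0 ≤ conorm K D := fun Q => by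
  obtain ⟨P', hP'⟩ := FF.exists_isOver hF Q
  rw [FF.conorm_apply hF _ hP']
  exact mul_nonneg (Int.natCast_nonneg _) (hD P')

/-- A pencil outside the common part bounds the genus, and in case of equality it spans. -/
theorem pencil_span (hK : IsFunctionField k K) (h₁ : IsFunctionField k K₁) (h₂ : IsFunctionField k K₂)
    (d₁ : Module.finrank K₁ K = 2) (d₂ : Module.finrank K₂ K = 2)
    {A : Divisor k K₂} {y : K₂} (hA : 0 ≤ A) (hy : y ∈ L A) (hyS : y ∉ inter k K₁ K₂ K)
    {B : Divisor k K₁} (hB : 0 ≤ B) (hBd : 2 * (genus k K₁ : ℤ) + 2 * genus k K + 2 ≤ B.deg) :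
    (genus k K : ℤ) ≤ 2 * genus k K₁ + 2 * A.deg - 1 ∧
      ((genus k K : ℤ) = 2 * genus k K₁ + 2 * A.deg - 1 → ∀ f ∈ L (conorm K B + conorm K A),
        ∃ a ∈ L B, ∃ b ∈ L B, f = algebraMap K₁ K a + algebraMap K₁ K b * algebraMap K₂ K y) := by
  classical
  have hA' := FF.deg_nonneg hA
  haveI := FF.finite_L h₁ B
  haveI := FF.finite_L hK (conorm K B + conorm K A)
  let φ : L B × L B →ₗ[k] L (conorm K B + conorm K A) :=
    { toFun := fun p => ⟨algebraMap K₁ K p.1.1 + algebraMap K₁ K p.2.1 * algebraMap K₂ K y,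
        add_mem (FF.L_mono (le_add_of_nonneg_right (conorm_nonneg h₂ hA)) (mem_conorm h₁ p.1.2))
          (FF.mul_mem_L (mem_conorm h₁ p.2.2) (mem_conorm h₂ hy))⟩
      map_add' := fun p q => Subtype.ext (by simp only [Prod.fst_add, Prod.snd_add, Submodule.coe_add, map_add]; ring)
      map_smul' := fun c p => Subtype.ext (by
        simp only [Prod.smul_fst, Prod.smul_snd, SetLike.val_smul, RingHom.id_apply, smul_add, Algebra.smul_def, map_mul,
          ← IsScalarTower.algebraMap_apply k K₁ K]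
        ring) }
  have hinj : Function.Injective φ := (injective_iff_map_eq_zero φ).2 fun p hp => by
    have h : algebraMap K₁ K p.1.1 + algebraMap K₁ K p.2.1 * algebraMap K₂ K y = 0 :=
      congrArg (fun t : L (conorm K B + conorm K A) => (t : K)) hp
    have hb : (p.2.1 : K₁) = 0 := by
      by_contra hb
      refine hyS (show IsScalarTower.toAlgHom k K₂ K y ∈ (IsScalarTower.toAlgHom k K₁ K).fieldRange from
        ⟨-(p.1.1 / p.2.1), ?_⟩)
      show algebraMap K₁ K _ = algebraMap K₂ K y
      rw [map_neg, map_div₀, ← neg_div, div_eq_iff ((_root_.map_ne_zero _).2 hb)]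
      linear_combination -h
    rw [hb, map_zero, zero_mul, add_zero, map_eq_zero] at h
    exact Prod.ext (Subtype.ext h) (Subtype.ext hb)
  have hfr := LinearMap.finrank_le_finrank_of_injective hinj
  rw [Module.finrank_prod] at hfr
  have e1 := FF.ell_of_deg_large h₁ (D := B) (by omega)
  have e2 := FF.ell_of_deg_large hK (D := conorm K B + conorm K A) (by
    rw [FF.deg_add, FF.deg_conorm h₁, FF.deg_conorm h₂, d₁, d₂]; push_cast; omega)
  rw [FF.deg_add, FF.deg_conorm h₁, FF.deg_conorm h₂, d₁, d₂] at e2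
  simp only [ell] at *
  push_cast at *
  refine ⟨by omega, fun he f hf => ?_⟩
  have hsur := (LinearMap.injective_iff_surjective_of_finrank_eq_finrank (f := φ) (by
    rw [Module.finrank_prod]; omega)).1 hinj
  obtain ⟨p, hp⟩ := hsur ⟨f, hf⟩
  exact ⟨_, p.1.2, _, p.2.2, (congrArg Subtype.val hp).symm⟩

/-- Castelnuovo–Severi for two quadratic subfields. -/
theorem genus_le (hK : IsFunctionField k K) (h₁ : IsFunctionField k K₁) (h₂ : IsFunctionField k K₂)
    (d₁ : Module.finrank K₁ K = 2) (d₂ : Module.finrank K₂ K = 2)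
    (hne : (IsScalarTower.toAlgHom k K₁ K).fieldRange ≠ (IsScalarTower.toAlgHom k K₂ K).fieldRange) :
    genus k K ≤ 2 * genus k K₁ + 2 * genus k K₂ + 1 := by
  classical
  haveI := FF.infinite_places h₁
  haveI := FF.infinite_places h₂
  obtain ⟨P⟩ := (inferInstance : Nonempty (Place k K₁))
  obtain ⟨P₂⟩ := (inferInstance : Nonempty (Place k K₂))
  obtain ⟨A, y, hA, -, hAd, hy, hyS⟩ := exists_notMem h₂ _ (inter_ne_top d₁ d₂ hne) P₂
  have h := (pencil_span hK h₁ h₂ d₁ d₂ hA hy hyS (B := Finsupp.single P ((2 * genus k K₁ + 2 * genus k K + 2 : ℕ) : ℤ))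
    (Finsupp.single_nonneg.2 (Int.natCast_nonneg _)) (by rw [FF.deg_single_ac h₁]; push_cast; rfl)).1
  omega

end Groth.Agent.CastSeveriLib
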