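import Groth.Agent.CastSeveriLib.Equality
import Groth.Agent.CurveFF.GenusLe
import Groth.Agent.CurveFF.Morph
import Groth.Agent.CurveFF.MapPlaces
import Groth.Agent.CurveFF.GenEtale
import Groth.Agent.CurveFF.Duality
import Groth.Agent.CurveFF.Pic
import Groth.Agent.CurveFF.VeryAmple
import Groth.Agent.S10867

/-!
# Two double covers by one curve
-/

set_option autoImplicit false
set_option backward.isDefEq.respectTransparency false
set_option linter.style.haveILetI false
set_option maxHeartbeats 1000000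

universe u

open CategoryTheory CategoryTheory.Limits AlgebraicGeometry TopologicalSpace

noncomputable section

namespace Groth.Agent.CastSeveriLib

attribute [local instance] Curv2.stalkAlgebra
attribute [local instance high] FunFld.Place.algRes

open Groth.Agent

variable {k : Type u} [Field k] [IsAlgClosed k] {X P₁ P₂ : Scheme.{u}}
  [X.Over (Spec (CommRingCat.of k))] [IsProper (X ↘ Spec (CommRingCat.of k))] [IsIntegral X] [VBLib.IsRegCurve X]
  [P₁.Over (Spec (CommRingCat.of k))] [IsProper (P₁ ↘ Spec (CommRingCat.of k))] [IsIntegral P₁] [VBLib.IsRegCurve P₁]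
  [P₂.Over (Spec (CommRingCat.of k))] [IsProper (P₂ ↘ Spec (CommRingCat.of k))] [IsIntegral P₂] [VBLib.IsRegCurve P₂]

theorem surjective_of_rank {Y : Scheme.{u}} (f : X ⟶ Y) [IsFinite f] [Flat f]
    (hr : ∀ y : Y, Scheme.Hom.finrank f y = 2) : Surjective f :=
  (Scheme.Hom.one_le_finrank_iff_surjective f).1 fun y => by rw [Pi.one_apply, hr y]; norm_num

omit [IsProper (X ↘ Spec (CommRingCat.of k))] [VBLib.IsRegCurve X] [VBLib.IsRegCurve P₁]
  [IsProper (P₁ ↘ Spec (CommRingCat.of k))] [IsAlgClosed k] in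
theorem scalarTower (f : X ⟶ P₁) [IsFinite f] [Surjective f]
    (hf : f ≫ (P₁ ↘ Spec (CommRingCat.of k)) = X ↘ Spec (CommRingCat.of k)) :
    letI := NormHomLib.ffAlg f
    IsScalarTower k P₁.functionField X.functionField := by
  have hcomm : (NormHomLib.ffMap f).hom.comp (Curv2.stalkMap k P₁ (genericPoint P₁)) =
      Curv2.stalkMap k X (genericPoint X) := by
    have h1 := CurveFF.fromSpecStalk_over k (X := X) (genericPoint X)
    rw [← hf, ← Category.assoc, CurveFF.fromSpecStalk_ffMap, Category.assoc, CurveFF.fromSpecStalk_over k,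
      ← Spec.map_comp] at h1
    exact congrArg CommRingCat.Hom.hom (Spec.map_injective h1)
  letI := NormHomLib.ffAlg f
  exact IsScalarTower.of_algebraMap_eq fun c => (RingHom.congr_fun hcomm c).symm

omit [IsProper (X ↘ Spec (CommRingCat.of k))] [VBLib.IsRegCurve X] [X.Over (Spec (CommRingCat.of k))] in
theorem finrank_two {Y : Scheme.{u}} [IsIntegral Y] [IsLocallyNoetherian Y] (f : X ⟶ Y) [IsFinite f] [Flat f] [Surjective f]
    (hr : ∀ y : Y, Scheme.Hom.finrank f y = 2) :
    letI := NormHomLib.ffAlg f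
    Module.finrank Y.functionField X.functionField = 2 := by
  letI := NormHomLib.ffAlg f
  rw [← CurveFF.GenEtale.residueDegree_eq_finrank f, ← CurveFF.GenEtale.finrank_eq_residueDegree f (genericPoint Y), hr]

variable (hdim : topologicalKrullDim X = 1) (hdim₁ : topologicalKrullDim P₁ = 1) (hdim₂ : topologicalKrullDim P₂ = 1)
  (f₁ : X ⟶ P₁) [IsFinite f₁] [Surjective f₁] (hf₁ : f₁ ≫ (P₁ ↘ Spec (CommRingCat.of k)) = X ↘ Spec (CommRingCat.of k))
  (f₂ : X ⟶ P₂) [IsFinite f₂] [Surjective f₂] (hf₂ : f₂ ≫ (P₂ ↘ Spec (CommRingCat.of k)) = X ↘ Spec (CommRingCat.of k))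

include hdim₁ hdim₂ hf₁ hf₂ in
omit [IsAlgClosed k] [VBLib.IsRegCurve X] in
/-- Covers with the same field are isomorphic. -/
theorem fieldRange_ne
    (hne : ¬ ∃ e : P₁ ≅ P₂, e.hom ≫ (P₂ ↘ Spec (CommRingCat.of k)) = (P₁ ↘ Spec (CommRingCat.of k)) ∧ f₁ ≫ e.hom = f₂) :
    letI := NormHomLib.ffAlg f₁
    letI := NormHomLib.ffAlg f₂
    haveI := scalarTower f₁ hf₁
    haveI := scalarTower f₂ hf₂
    (IsScalarTower.toAlgHom k P₁.functionField X.functionField).fieldRange ≠
      (IsScalarTower.toAlgHom k P₂.functionField X.functionField).fieldRange := by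
  letI := NormHomLib.ffAlg f₁
  letI := NormHomLib.ffAlg f₂
  haveI := scalarTower f₁ hf₁
  haveI := scalarTower f₂ hf₂
  intro heq
  let e : P₂.functionField ≃ₐ[k] P₁.functionField :=
    ((AlgEquiv.ofInjectiveField (IsScalarTower.toAlgHom k P₂.functionField X.functionField)).trans
      (IntermediateField.equivOfEq heq.symm)).trans
      (AlgEquiv.ofInjectiveField (IsScalarTower.toAlgHom k P₁.functionField X.functionField)).symm
  have he : ∀ a, algebraMap P₁.functionField X.functionField (e a) = algebraMap P₂.functionField X.functionField a :=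
    fun a => congrArg Subtype.val ((AlgEquiv.ofInjectiveField
      (IsScalarTower.toAlgHom k P₁.functionField X.functionField)).apply_symm_apply _)
  obtain ⟨σ, hσ, hσ'⟩ := CurveFF.exists_iso_of_algEquiv hdim₁ hdim₂ e
  refine hne ⟨σ, hσ, ?_⟩
  haveI := CurveFF.isDominant_fromSpecStalk_generic (X := X)
  refine ext_of_isDominant_of_isSeparated (P₂ ↘ Spec (CommRingCat.of k)) ?_ (X.fromSpecStalk (genericPoint X)) ?_
  · rw [Category.assoc, hσ, hf₁, hf₂]
  · rw [← Category.assoc, CurveFF.fromSpecStalk_ffMap, Category.assoc, hσ', ← Category.assoc,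
      ← Spec.map_comp, CurveFF.fromSpecStalk_ffMap]
    congr 2
    exact CommRingCat.hom_ext (RingHom.ext he)

include hdim hdim₁ hdim₂ hf₁ hf₂ in
/-- The genus inequality. -/
theorem genus_le' [Flat f₁] [Flat f₂] (hr₁ : ∀ y : P₁, Scheme.Hom.finrank f₁ y = 2)
    (hr₂ : ∀ y : P₂, Scheme.Hom.finrank f₂ y = 2)
    (hne : ¬ ∃ e : P₁ ≅ P₂, e.hom ≫ (P₂ ↘ Spec (CommRingCat.of k)) = (P₁ ↘ Spec (CommRingCat.of k)) ∧ f₁ ≫ e.hom = f₂) :
    Curv2.genus k X ≤ 2 * Curv2.genus k P₁ + 2 * Curv2.genus k P₂ + 1 := by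
  letI := NormHomLib.ffAlg f₁
  letI := NormHomLib.ffAlg f₂
  haveI := scalarTower f₁ hf₁
  haveI := scalarTower f₂ hf₂
  haveI : FiniteDimensional P₁.functionField X.functionField := NormHomLib.finite_functionField f₁
  haveI : FiniteDimensional P₂.functionField X.functionField := NormHomLib.finite_functionField f₂
  haveI : IsLocallyNoetherian P₁ := LocallyOfFiniteType.isLocallyNoetherian (P₁ ↘ Spec (CommRingCat.of k))
  haveI : IsLocallyNoetherian P₂ := LocallyOfFiniteType.isLocallyNoetherian (P₂ ↘ Spec (CommRingCat.of k))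
  rw [CurveFF.genus_eq hdim CurveLib.finrank_H0_structure, CurveFF.genus_eq hdim₁ CurveLib.finrank_H0_structure,
    CurveFF.genus_eq hdim₂ CurveLib.finrank_H0_structure]
  exact genus_le (CurveFF.isFunctionField k hdim CurveLib.finrank_H0_structure)
    (CurveFF.isFunctionField k hdim₁ CurveLib.finrank_H0_structure)
    (CurveFF.isFunctionField k hdim₂ CurveLib.finrank_H0_structure) (finrank_two f₁ hr₁)
    (finrank_two f₂ hr₂) (fieldRange_ne hdim₁ hdim₂ f₁ hf₁ f₂ hf₂ hne)

include hdim hdim₁ hdim₂ hf₁ hf₂ in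
/-- The hyperelliptic pencil. -/
theorem exists_hyperelliptic [Flat f₁] [Flat f₂] (hr₁ : ∀ y : P₁, Scheme.Hom.finrank f₁ y = 2)
    (hr₂ : ∀ y : P₂, Scheme.Hom.finrank f₂ y = 2)
    (hne : ¬ ∃ e : P₁ ≅ P₂, e.hom ≫ (P₂ ↘ Spec (CommRingCat.of k)) = (P₁ ↘ Spec (CommRingCat.of k)) ∧ f₁ ≫ e.hom = f₂)
    (hg : Curv2.genus k X = 2 * Curv2.genus k P₁ + 2 * Curv2.genus k P₂ + 1) (hg₂ : 1 ≤ Curv2.genus k P₂) :
    ∃ M : P₂.Modules, PicF.IsInvertible M ∧ Curv2.deg k P₂ M 1 = 2 ∧ 2 ≤ Module.finrank k (Coh.HH P₂ M 0) := by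
  letI := NormHomLib.ffAlg f₁
  letI := NormHomLib.ffAlg f₂
  haveI := scalarTower f₁ hf₁
  haveI := scalarTower f₂ hf₂
  haveI : FiniteDimensional P₁.functionField X.functionField := NormHomLib.finite_functionField f₁
  haveI : FiniteDimensional P₂.functionField X.functionField := NormHomLib.finite_functionField f₂
  haveI : IsLocallyNoetherian P₁ := LocallyOfFiniteType.isLocallyNoetherian (P₁ ↘ Spec (CommRingCat.of k))
  haveI : IsLocallyNoetherian P₂ := LocallyOfFiniteType.isLocallyNoetherian (P₂ ↘ Spec (CommRingCat.of k))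
  rw [CurveFF.genus_eq hdim CurveLib.finrank_H0_structure, CurveFF.genus_eq hdim₁ CurveLib.finrank_H0_structure,
    CurveFF.genus_eq hdim₂ CurveLib.finrank_H0_structure] at hg
  rw [CurveFF.genus_eq hdim₂ CurveLib.finrank_H0_structure] at hg₂
  obtain ⟨E, hEd, hEl⟩ := exists_g12_of_eq (CurveFF.isFunctionField k hdim CurveLib.finrank_H0_structure)
    (CurveFF.isFunctionField k hdim₁ CurveLib.finrank_H0_structure)
    (CurveFF.isFunctionField k hdim₂ CurveLib.finrank_H0_structure) (finrank_two f₁ hr₁)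
    (finrank_two f₂ hr₂) (fieldRange_ne hdim₁ hdim₂ f₁ hf₁ f₂ hf₂ hne) hg₂ hg
  obtain ⟨M, e, hM, he, hD⟩ := CurveFF.exists_module hdim₂ CurveLib.finrank_H0_structure E
  refine ⟨M, hM, ?_, ?_⟩
  · rw [(CurveFF.genus_and_deg hdim₂ CurveLib.finrank_H0_structure hM he hD).2, hEd]
  · rwa [CurveFF.finrank_H0_eq_ell hdim₂ hM he hD]

include hdim hdim₁ hf₁ in
/-- The place of the image point lies below. -/
theorem isOver_placeOf {x : X} (hx : IsClosed ({x} : Set X)) (hy : IsClosed ({f₁ x} : Set P₁)) :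
    letI := NormHomLib.ffAlg f₁
    FunFld.IsOver (CurveFF.placeOf k hdim x hx) (CurveFF.placeOf k hdim₁ (f₁ x) hy) := by
  letI := NormHomLib.ffAlg f₁
  haveI := scalarTower f₁ hf₁
  haveI : FiniteDimensional P₁.functionField X.functionField := NormHomLib.finite_functionField f₁
  obtain ⟨P, hP⟩ := FF.exists_isOver (K' := X.functionField)
    (CurveFF.isFunctionField k hdim₁ (CurveFF.h0_eq_one k hdim₁)) (CurveFF.placeOf k hdim x hx)
  have : P = CurveFF.placeOf k hdim₁ (f₁ x) hy := FF.place_eq_of_le P fun z hz =>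
    CurveFF.le_one_of_place_map hdim hdim₁ f₁ (NormHomLib.ffMap f₁).hom (CurveFF.fromSpecStalk_ffMap f₁) hx hy z
      ((FF.le_one_iff_of_isOver hP z).2 hz)
  exact this ▸ hP

include hdim hdim₁ hf₁ in
/-- The ramified case. -/
theorem two_le_ramIdx {x : X} (hx : IsClosed ({x} : Set X)) (hy : IsClosed ({f₁ x} : Set P₁))
    (h : Ideal.map (f₁.stalkMap x).hom (IsLocalRing.maximalIdeal (P₁.presheaf.stalk (f₁ x))) ≤
      IsLocalRing.maximalIdeal (X.presheaf.stalk x) ^ 2) :
    letI := NormHomLib.ffAlg f₁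
    2 ≤ FunFld.ramIdx (CurveFF.placeOf k hdim x hx) (CurveFF.placeOf k hdim₁ (f₁ x) hy) := by
  letI := NormHomLib.ffAlg f₁
  haveI := scalarTower f₁ hf₁
  obtain ⟨t, ht, hto⟩ := FF.exists_ord_eq (CurveFF.placeOf k hdim₁ (f₁ x) hy) 1
  have hlt : (CurveFF.placeOf k hdim₁ (f₁ x) hy).1 t < 1 := by
    refine (FF.v_lt_one_iff_le_exp _ _).2 ((FF.v_le_exp_iff _ ht).2 ?_)
    omega
  obtain ⟨a, rfl⟩ := (CurveFF.placeOf_le_one_iff hdim₁ hy t).1 hlt.le
  haveI := CurveFF.isDVR k hdim₁ hy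
  have ha : a ∈ IsLocalRing.maximalIdeal (P₁.presheaf.stalk (f₁ x)) :=
    (IsDedekindDomain.HeightOneSpectrum.valuation_lt_one_iff_mem _ _).1 hlt
  have hv : (CurveFF.placeOf k hdim x hx).1 (algebraMap P₁.functionField X.functionField
      (algebraMap (P₁.presheaf.stalk (f₁ x)) P₁.functionField a)) ≤ WithZero.exp (-((2 : ℕ) : ℤ)) := by
    rw [show algebraMap P₁.functionField X.functionField (algebraMap (P₁.presheaf.stalk (f₁ x)) P₁.functionField a) =
      (NormHomLib.ffMap f₁).hom (algebraMap (P₁.presheaf.stalk (f₁ x)) P₁.functionField a) from rfl,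
      CurveFF.map_algebraMap_stalk f₁ (NormHomLib.ffMap f₁).hom (CurveFF.fromSpecStalk_ffMap f₁) x a]
    exact (CurveFF.VeryAmple.val_le_exp_iff (k := k) hdim hx _ 2).2 (h (Ideal.mem_map_of_mem _ ha))
  have h2 := (FF.v_le_exp_iff _ ((map_ne_zero _).2 ht)).1 hv
  rw [FF.ord_of_isOverWith (FF.isOverWith_ramIdx (isOver_placeOf hdim hdim₁ f₁ hf₁ hx hy)), hto, mul_one] at h2
  omega

include hdim hdim₁ hf₁ in
/-- A divisor of degree two in the fibre. -/
theorem pair_le [Flat f₁] {x x' : X} (hx : IsClosed ({x} : Set X)) (hx' : IsClosed ({x'} : Set X))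
    (hy : IsClosed ({f₁ x} : Set P₁)) (he : f₁ x' = f₁ x)
    (h : x = x' → Ideal.map (f₁.stalkMap x).hom (IsLocalRing.maximalIdeal (P₁.presheaf.stalk (f₁ x))) ≤
      IsLocalRing.maximalIdeal (X.presheaf.stalk x) ^ 2) :
    letI := NormHomLib.ffAlg f₁
    haveI := scalarTower f₁ hf₁
    Finsupp.single (CurveFF.placeOf k hdim x hx) (1 : ℤ) + Finsupp.single (CurveFF.placeOf k hdim x' hx') 1 ≤
      FunFld.conorm X.functionField (Finsupp.single (CurveFF.placeOf k hdim₁ (f₁ x) hy) (1 : ℤ)) := by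
  classical
  letI := NormHomLib.ffAlg f₁
  haveI := scalarTower f₁ hf₁
  haveI : FiniteDimensional P₁.functionField X.functionField := NormHomLib.finite_functionField f₁
  have hK := CurveFF.isFunctionField k hdim₁ (CurveFF.h0_eq_one k hdim₁)
  have o1 := isOver_placeOf hdim hdim₁ f₁ hf₁ hx hy
  have o2 : FunFld.IsOver (CurveFF.placeOf k hdim x' hx') (CurveFF.placeOf k hdim₁ (f₁ x) hy) := by
    have h0 := isOver_placeOf hdim hdim₁ f₁ hf₁ hx' (he.symm ▸ hy)
    revert h0
    generalize hp : (he.symm ▸ hy : IsClosed ({f₁ x'} : Set P₁)) = hy'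
    clear hp
    revert hy'
    rw [he]
    exact fun _ h => h
  intro Q
  rw [Finsupp.add_apply, Finsupp.single_apply, Finsupp.single_apply]
  obtain ⟨P, hP⟩ := FF.exists_isOver hK Q
  rw [FF.conorm_apply hK _ hP]
  have hpos := FF.pos_of_isOverWith (FF.isOverWith_ramIdx hP)
  by_cases h1 : CurveFF.placeOf k hdim x hx = Q
  · subst h1
    obtain rfl := FF.place_below_unique hP o1
    rw [if_pos rfl, Finsupp.single_eq_same, mul_one]
    split_ifs with h2
    · have := two_le_ramIdx hdim hdim₁ f₁ hf₁ hx hy (h (CurveFF.placeOf_injective hdim hx' hx h2).symm)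
      omega
    · omega
  by_cases h2 : CurveFF.placeOf k hdim x' hx' = Q
  · subst h2
    obtain rfl := FF.place_below_unique hP o2
    rw [if_neg h1, if_pos rfl, Finsupp.single_eq_same, mul_one]
    omega
  · rw [if_neg h1, if_neg h2, add_zero]
    refine mul_nonneg (Int.natCast_nonneg _) ?_
    rw [Finsupp.single_apply]
    split_ifs <;> norm_num

include hdim hdim₁ hdim₂ hf₁ hf₂ in
/-- The two covers embed the curve in the product. -/
theorem isClosedImmersion_lift [Flat f₁] [Flat f₂] (hr₁ : ∀ y : P₁, Scheme.Hom.finrank f₁ y = 2)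
    (hr₂ : ∀ y : P₂, Scheme.Hom.finrank f₂ y = 2)
    (hne : ¬ ∃ e : P₁ ≅ P₂, e.hom ≫ (P₂ ↘ Spec (CommRingCat.of k)) = (P₁ ↘ Spec (CommRingCat.of k)) ∧ f₁ ≫ e.hom = f₂)
    (hg : Curv2.genus k X = 2 * Curv2.genus k P₁ + 2 * Curv2.genus k P₂ + 1) :
    IsClosedImmersion (pullback.lift f₁ f₂ (hf₁.trans hf₂.symm) :
      X ⟶ pullback (P₁ ↘ Spec (CommRingCat.of k)) (P₂ ↘ Spec (CommRingCat.of k))) := by
  classical
  letI := NormHomLib.ffAlg f₁
  letI := NormHomLib.ffAlg f₂
  haveI := scalarTower f₁ hf₁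
  haveI := scalarTower f₂ hf₂
  haveI : FiniteDimensional P₁.functionField X.functionField := NormHomLib.finite_functionField f₁
  haveI : FiniteDimensional P₂.functionField X.functionField := NormHomLib.finite_functionField f₂
  haveI : IsLocallyNoetherian P₁ := LocallyOfFiniteType.isLocallyNoetherian (P₁ ↘ Spec (CommRingCat.of k))
  haveI : IsLocallyNoetherian P₂ := LocallyOfFiniteType.isLocallyNoetherian (P₂ ↘ Spec (CommRingCat.of k))
  rw [CurveFF.genus_eq hdim CurveLib.finrank_H0_structure, CurveFF.genus_eq hdim₁ CurveLib.finrank_H0_structure,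
    CurveFF.genus_eq hdim₂ CurveLib.finrank_H0_structure] at hg
  have hK := CurveFF.isFunctionField k hdim (CurveFF.h0_eq_one k hdim)
  have hno : ∀ (x x' : X) (hx : IsClosed ({x} : Set X)) (hx' : IsClosed ({x'} : Set X)),
      f₁ x' = f₁ x → f₂ x' = f₂ x →
      (x = x' → Ideal.map (f₁.stalkMap x).hom (IsLocalRing.maximalIdeal (P₁.presheaf.stalk (f₁ x))) ≤
          IsLocalRing.maximalIdeal (X.presheaf.stalk x) ^ 2 ∧
        Ideal.map (f₂.stalkMap x).hom (IsLocalRing.maximalIdeal (P₂.presheaf.stalk (f₂ x))) ≤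
          IsLocalRing.maximalIdeal (X.presheaf.stalk x) ^ 2) → False := by
    intro x x' hx hx' e1 e2 h
    have hy₁ : IsClosed ({f₁ x} : Set P₁) := by simpa using f₁.isClosedMap _ hx
    have hy₂ : IsClosed ({f₂ x} : Set P₂) := by simpa using f₂.isClosedMap _ hx
    refine not_common hK (CurveFF.isFunctionField k hdim₁ (CurveFF.h0_eq_one k hdim₁))
      (CurveFF.isFunctionField k hdim₂ (CurveFF.h0_eq_one k hdim₂)) (finrank_two f₁ hr₁)
      (finrank_two f₂ hr₂) (fieldRange_ne hdim₁ hdim₂ f₁ hf₁ f₂ hf₂ hne) hg _ ?_ _ _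
      (pair_le hdim hdim₁ f₁ hf₁ hx hx' hy₁ e1 fun e => (h e).1)
      (pair_le hdim hdim₂ f₂ hf₂ hx hx' hy₂ e2 fun e => (h e).2)
    rw [FF.deg_add, FF.deg_single_ac hK, FF.deg_single_ac hK]
    norm_num
  set l : X ⟶ pullback (P₁ ↘ Spec (CommRingCat.of k)) (P₂ ↘ Spec (CommRingCat.of k)) :=
    pullback.lift f₁ f₂ (hf₁.trans hf₂.symm)
  let q := pullback.fst (P₁ ↘ Spec (CommRingCat.of k)) (P₂ ↘ Spec (CommRingCat.of k)) ≫ (P₁ ↘ Spec (CommRingCat.of k))
  have hl₁ : l ≫ pullback.fst _ _ = f₁ := pullback.lift_fst _ _ _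
  have hl₂ : l ≫ pullback.snd _ _ = f₂ := pullback.lift_snd _ _ _
  have hlq : l ≫ q = X ↘ Spec (CommRingCat.of k) := by rw [← Category.assoc, hl₁, hf₁]
  haveI : LocallyOfFiniteType (l ≫ q) := by rw [hlq]; infer_instance
  haveI : IsProper (l ≫ q) := by rw [hlq]; infer_instance
  haveI : IsProper l := IsProper.of_comp l q
  refine S10867.result k l q (fun x hx x' hx' hxx => by_contra fun hne' => ?_) fun x hx => ?_
  · have a1 : f₁ x = f₁ x' := by rw [← hl₁, Scheme.Hom.comp_apply, Scheme.Hom.comp_apply]; exact congrArg _ hxx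
    have a2 : f₂ x = f₂ x' := by rw [← hl₂, Scheme.Hom.comp_apply, Scheme.Hom.comp_apply]; exact congrArg _ hxx
    exact hno x x' hx hx' a1.symm a2.symm fun e => absurd e hne'
  · by_contra hT
    haveI := CurveFF.isDVR k hdim hx
    obtain ⟨ϖ, hϖ⟩ := IsDiscreteValuationRing.exists_irreducible (X.presheaf.stalk x)
    have hI : Ideal.map (l.stalkMap x).hom (IsLocalRing.maximalIdeal _) ≤ IsLocalRing.maximalIdeal (X.presheaf.stalk x) ^ 2 := by
      rw [Ideal.map_le_iff_le_comap]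
      intro a ha
      by_contra ha2
      rw [Ideal.mem_comap] at ha2
      have h1 : (l.stalkMap x).hom a ∈ IsLocalRing.maximalIdeal (X.presheaf.stalk x) := map_nonunit (l.stalkMap x).hom a ha
      refine hT (le_antisymm (sup_le (Ideal.map_le_iff_le_comap.2 fun b hb => map_nonunit (l.stalkMap x).hom b hb)
        (Ideal.pow_le_self two_ne_zero)) ?_)
      refine le_trans ?_ le_sup_left
      refine le_trans ?_ ((Ideal.span_singleton_le_iff_mem _).2 (Ideal.mem_map_of_mem (l.stalkMap x).hom ha))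
      rw [hϖ.maximalIdeal_eq] at h1 ⊢
      obtain ⟨b, hb⟩ := Ideal.mem_span_singleton.1 h1
      have hu : IsUnit b := by
        by_contra hu
        refine ha2 ?_
        rw [hb, pow_two, hϖ.maximalIdeal_eq]
        exact Ideal.mul_mem_mul (Ideal.mem_span_singleton_self ϖ) (by rw [← hϖ.maximalIdeal_eq]; exact hu)
      rw [hb, Ideal.span_singleton_mul_right_unit hu]
    have key : ∀ {Y : Scheme.{u}} (g : pullback (P₁ ↘ Spec (CommRingCat.of k)) (P₂ ↘ Spec (CommRingCat.of k)) ⟶ Y)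
        (f : X ⟶ Y), l ≫ g = f → Ideal.map (f.stalkMap x).hom (IsLocalRing.maximalIdeal (Y.presheaf.stalk (f x))) ≤
          IsLocalRing.maximalIdeal (X.presheaf.stalk x) ^ 2 := by
      rintro Y g f rfl
      rw [Scheme.Hom.stalkMap_comp, CommRingCat.hom_comp, ← Ideal.map_map]
      have h1 : Ideal.map (g.stalkMap (l x)).hom (IsLocalRing.maximalIdeal (Y.presheaf.stalk (g (l x)))) ≤
          IsLocalRing.maximalIdeal _ := Ideal.map_le_iff_le_comap.2 fun b hb => map_nonunit (g.stalkMap (l x)).hom b hb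
      exact (Ideal.map_mono h1).trans hI
    exact hno x x hx hx rfl rfl fun _ => ⟨key _ _ hl₁, key _ _ hl₂⟩

end Groth.Agent.CastSeveriLib
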