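import Groth.Agent.CastSeveriLib.Core

/-!
# The case of equality in the Castelnuovo–Severi inequality
-/

set_option autoImplicit false
set_option linter.style.haveILetI false
set_option maxHeartbeats 1000000

noncomputable section

namespace Groth.Agent.CastSeveriLib

open FunFld
open scoped WithZero IntermediateField

universe u v

variable {k : Type u} [Field k] [IsAlgClosed k]

section One

variable {F : Type v} [Field F] [Algebra k F]

/-- Remove the value at a place. -/
theorem exists_sub_const (hF : IsFunctionField k F) (P : Place k F) {D : Divisor k F} (hD : 0 ≤ D) (hP : D P = 0)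
    {a : F} (ha : a ∈ L D) : ∃ c : k, a - algebraMap k F c ∈ L (D - Finsupp.single P 1) := by
  have h1 : P.1 a ≤ 1 := by
    have := ha P
    rwa [hP, WithZero.exp_zero] at this
  obtain ⟨c, hc⟩ := FF.exists_const hF P h1
  have hmem : a - algebraMap k F c ∈ L D := by
    refine sub_mem ha ?_
    rw [Algebra.algebraMap_eq_smul_one]
    exact Submodule.smul_mem _ c (FF.one_mem_L hD)
  refine ⟨c, fun R => ?_⟩
  rcases eq_or_ne R P with rfl | hR
  · rw [Finsupp.sub_apply, hP, Finsupp.single_eq_same]
    exact (FF.v_lt_one_iff_le_exp _ _).1 hc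
  · rw [Finsupp.sub_apply, Finsupp.single_eq_of_ne hR, sub_zero]
    exact hmem R

/-- Functions all congruent to constants modulo a divisor. -/
theorem ell_le_of_const (hF : IsFunctionField k F) {D E : Divisor k F}
    (h : ∀ f ∈ L D, ∃ c : k, f - algebraMap k F c ∈ L (D - E)) : ell D ≤ ell (D - E) + 1 := by
  haveI := FF.finite_L hF (D - E)
  have hle : L D ≤ Submodule.span k {(1 : F)} ⊔ L (D - E) := fun f hf => by
    obtain ⟨c, hc⟩ := h f hf
    rw [show f = algebraMap k F c + (f - algebraMap k F c) by ring]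
    exact Submodule.add_mem_sup (by rw [Algebra.algebraMap_eq_smul_one]
                                    exact Submodule.smul_mem _ c (Submodule.subset_span rfl)) hc
  haveI : FiniteDimensional k (Submodule.span k {(1 : F)}) := FiniteDimensional.span_singleton k 1
  have h1 := Submodule.finrank_mono hle
  have h2 := Submodule.finrank_add_le_finrank_add_finrank (Submodule.span k {(1 : F)}) (L (D - E))
  rw [finrank_span_singleton one_ne_zero] at h2
  simp only [ell]
  omega

/-- A point in the support of an effective divisor. -/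
theorem exists_one_le {G : Divisor k F} (hd : 1 ≤ G.deg) : ∃ Q : Place k F, 1 ≤ G Q := by
  by_contra hno
  push Not at hno
  have := FF.deg_mono (show G ≤ 0 from fun R => by
    have := hno R
    rw [Finsupp.coe_zero, Pi.zero_apply]; omega)
  rw [FF.deg_zero] at this
  omega

/-- Two points of an effective divisor. -/
theorem exists_pair_le (hF : IsFunctionField k F) {G : Divisor k F} (h0 : 0 ≤ G) (hd : 2 ≤ G.deg) :
    ∃ E : Divisor k F, 0 ≤ E ∧ E ≤ G ∧ E.deg = 2 := by
  classical
  obtain ⟨Q, hQ⟩ := exists_one_le (G := G) (by omega)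
  obtain ⟨Q', hQ'⟩ := exists_one_le (G := G - Finsupp.single Q 1) (by rw [FF.deg_sub, FF.deg_single_ac hF]; omega)
  refine ⟨Finsupp.single Q 1 + Finsupp.single Q' 1,
    add_nonneg (Finsupp.single_nonneg.2 zero_le_one) (Finsupp.single_nonneg.2 zero_le_one), fun R => ?_,
    by rw [FF.deg_add, FF.deg_single_ac hF, FF.deg_single_ac hF]; norm_num⟩
  have := h0 R
  rw [Finsupp.coe_zero, Pi.zero_apply] at this
  simp only [Finsupp.sub_apply, Finsupp.add_apply, Finsupp.single_apply] at *
  split_ifs at * <;> subst_vars <;> first | contradiction | omega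

/-- If every small system lies in a proper subfield there is a pencil of degree two. -/
theorem exists_g12 (hF : IsFunctionField k F) (hg : 1 ≤ genus k F) (S : IntermediateField k F) (hS : S ≠ ⊤)
    (hsmall : ∀ A : Divisor k F, 0 ≤ A → A.deg ≤ genus k F → ∀ y ∈ L A, y ∈ S) :
    ∃ E : Divisor k F, E.deg = 2 ∧ 2 ≤ ell E := by
  classical
  haveI := FF.infinite_places hF
  obtain ⟨C₀, hC₀⟩ := FF.exists_canonical hF
  have rr := FF.riemann_roch hF hC₀
  obtain ⟨P₀⟩ := (inferInstance : Nonempty (Place k F))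
  rcases eq_or_lt_of_le hg with hg1 | hg2
  · refine ⟨Finsupp.single P₀ 2, FF.deg_single_ac hF _ _, ?_⟩
    have := rr (Finsupp.single P₀ 2)
    rw [FF.deg_single_ac hF] at this
    omega
  have r0 := rr 0
  have r1 := rr C₀
  rw [sub_self, FF.ell_zero hF] at r1
  rw [sub_zero, FF.ell_zero hF, FF.deg_zero] at r0
  obtain ⟨z, hz0, hzC, hzl, hzd⟩ := CurveFF.exists_effective hF (D := C₀) (by omega)
  set C := C₀ + div k z with hCdef
  have rr' : ∀ D : Divisor k F, (ell D : ℤ) = ell (C - D) + D.deg + 1 - genus k F := fun D => by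
    have h := rr D
    rw [← FF.ell_add_div hF (C₀ - D) hz0, show C₀ - D + div k z = C - D by rw [hCdef]; abel] at h
    omega
  have hCd : C.deg = 2 * genus k F - 2 := by omega
  -- ratios inside canonical subsystems
  have ratio : ∀ (j : ℕ) (E : Divisor k F), 0 ≤ E → E.deg + (j : ℤ) = (genus k F : ℤ) - 2 → ∀ y ∈ L (C - E), ∀ y' ∈ L (C - E),
      y ≠ 0 → y' ≠ 0 → y / y' ∈ S := by
    intro j
    induction j with
    | zero =>
      intro E _ hEd y hy y' hy' h0 h0'
      refine hsmall (C - E + div k y') (FF.le_add_div_of_mem_L hF h0' hy') ?_ _ ?_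
      · rw [FF.deg_add, FF.deg_div hF, FF.deg_sub]
        push_cast at hEd
        omega
      · rw [FF.mem_L_iff_ord (div_ne_zero h0 h0')]
        intro R
        rw [div_eq_mul_inv, FF.ord_mul R h0 (inv_ne_zero h0'), FF.ord_inv, Finsupp.add_apply, FF.div_apply hF]
        have := (FF.mem_L_iff_ord h0).1 hy R
        omega
    | succ j ih =>
      intro E hE hEd y hy y' hy' h0 h0'
      push_cast at hEd
      have key : ∀ w ∈ L (C - E), w ≠ 0 → ∃ Q : Place k F, w ∈ L (C - (E + Finsupp.single Q 1)) := by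
        intro w hw hw0
        obtain ⟨Q, hQ⟩ : ∃ Q, 1 ≤ (C - E + div k w) Q := by
          by_contra hno
          push Not at hno
          have h2 := FF.deg_mono (show C - E + div k w ≤ 0 from fun R => by
            have := hno R
            rw [Finsupp.coe_zero, Pi.zero_apply]; omega)
          rw [FF.deg_add, FF.deg_div hF, FF.deg_sub, FF.deg_zero] at h2
          omega
        refine ⟨Q, (FF.mem_L_iff_ord hw0).2 fun R => ?_⟩
        have := (FF.mem_L_iff_ord hw0).1 hw R
        rw [Finsupp.add_apply, FF.div_apply hF] at hQ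
        simp only [Finsupp.sub_apply, Finsupp.add_apply] at *
        rcases eq_or_ne R Q with rfl | hR
        · rw [Finsupp.single_eq_same]; omega
        · rw [Finsupp.single_eq_of_ne hR]; omega
      obtain ⟨Q, hQ⟩ := key y hy h0
      obtain ⟨Q', hQ'⟩ := key y' hy' h0'
      have hEQ : ∀ R : Place k F, 0 ≤ E + Finsupp.single R 1 := fun R =>
        add_nonneg hE (Finsupp.single_nonneg.2 zero_le_one)
      have hdim := rr' (E + Finsupp.single Q 1 + Finsupp.single Q' 1)
      have hone := FF.one_mem_L (add_nonneg (hEQ Q) (Finsupp.single_nonneg.2 zero_le_one) :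
        0 ≤ E + Finsupp.single Q 1 + Finsupp.single Q' 1)
      have hpos : 1 ≤ ell (E + Finsupp.single Q 1 + Finsupp.single Q' 1) := by
        haveI := FF.finite_L hF (E + Finsupp.single Q 1 + Finsupp.single Q' 1)
        exact Submodule.one_le_finrank_iff.2 fun hb => one_ne_zero ((Submodule.eq_bot_iff _).1 hb 1 hone)
      rw [FF.deg_add, FF.deg_add, FF.deg_single_ac hF, FF.deg_single_ac hF] at hdim
      obtain ⟨w, hw0, hw⟩ := FF.exists_ne_zero_of_ell_pos (D := C - (E + Finsupp.single Q 1 + Finsupp.single Q' 1))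
        (by omega)
      have hd : ∀ R : Place k F, (E + Finsupp.single R 1).deg + (j : ℤ) = (genus k F : ℤ) - 2 := fun R => by
        rw [FF.deg_add, FF.deg_single_ac hF]; omega
      have e1 := ih _ (hEQ Q) (hd Q) y hQ w (FF.L_mono (sub_le_sub_left (le_add_of_nonneg_right
        (Finsupp.single_nonneg.2 zero_le_one)) C) hw) h0 hw0
      have e2 := ih _ (hEQ Q') (hd Q') w (FF.L_mono (sub_le_sub_left (by
        rw [add_right_comm]; exact le_add_of_nonneg_right (Finsupp.single_nonneg.2 zero_le_one)) C) hw) y' hQ' hw0 h0'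
      have := mul_mem e1 e2
      rwa [div_mul_div_cancel₀ hw0] at this
  have hCS : ∀ y ∈ L C, y ∈ S := by
    intro y hy
    rcases eq_or_ne y 0 with rfl | h0
    · exact zero_mem S
    · have := ratio (genus k F - 2) 0 le_rfl (by rw [FF.deg_zero]; omega) y (by rwa [sub_zero]) 1
        (by rw [sub_zero]; exact FF.one_mem_L hzC) h0 one_ne_zero
      rwa [div_one] at this
  -- a fibre of the field over the subfield
  obtain ⟨y₀, hy₀, hy₀c⟩ := CurveFF.exists_nonconstant hF (D := C) (by omega)
  have ht : Transcendental k y₀ := fun h => hy₀c (hF.2 y₀ h)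
  haveI := FF.finiteDimensional_adjoin hF ht
  have hle : k⟮y₀⟯ ≤ S := by
    rw [IntermediateField.adjoin_le_iff, Set.singleton_subset_iff]; exact hCS y₀ hy₀
  letI : Algebra k⟮y₀⟯ S := (IntermediateField.inclusion hle).toRingHom.toAlgebra
  haveI : IsScalarTower k⟮y₀⟯ S F := IsScalarTower.of_algebraMap_eq fun x => rfl
  haveI : FiniteDimensional S F := Module.Finite.of_restrictScalars_finite k⟮y₀⟯ S F
  have hKS := FF.isFunctionField_intermediate hF S
  haveI := FF.infinite_places hKS
  choose π hπ using fun Q : Place k F => FF.exists_isOver (K' := F) hKS Q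
  obtain ⟨p, hp⟩ := Infinite.exists_notMem_finset (C.support.image π)
  have hCp : ∀ Q : Place k F, IsOver Q p → C Q = 0 := fun Q hQ => by
    by_contra h
    exact hp (Finset.mem_image.2 ⟨Q, Finsupp.mem_support_iff.2 h, FF.place_below_unique (hπ Q) hQ⟩)
  set G := conorm F (Finsupp.single p (1 : ℤ)) with hG
  have hG0 : 0 ≤ G := conorm_nonneg hKS (Finsupp.single_nonneg.2 zero_le_one)
  have hGd : 2 ≤ G.deg := by
    rw [hG, FF.deg_conorm hKS, FF.deg_single_ac hKS, mul_one]
    by_contra hlt
    refine hS (eq_top_iff.2 fun x _ => ?_)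
    have hpos : 0 < Module.finrank S F := Module.finrank_pos
    have hfr : Module.finrank S F = 1 := by omega
    obtain ⟨c, hc⟩ := (finrank_eq_one_iff_of_nonzero' (1 : F) one_ne_zero).1 hfr x
    rw [← hc, Algebra.smul_def, mul_one]
    exact c.2
  obtain ⟨E, hE0, hEG, hEd⟩ := exists_pair_le hF hG0 hGd
  refine ⟨E, hEd, ?_⟩
  have hbound : ell C ≤ ell (C - E) + 1 := by
    refine ell_le_of_const hF fun y hy => ?_
    let s : S := ⟨y, hCS y hy⟩
    obtain ⟨R, hR⟩ := FF.exists_over (K' := F) hKS (P := p)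
    have hs : p.1 s ≤ 1 := by
      rw [← FF.le_one_iff_of_isOver hR]
      have := hy R
      rwa [hCp R hR, WithZero.exp_zero] at this
    obtain ⟨c, hc⟩ := FF.exists_const hKS p hs
    refine ⟨c, ?_⟩
    have hyC : y - algebraMap k F c ∈ L C := by
      refine sub_mem hy ?_
      rw [Algebra.algebraMap_eq_smul_one]
      exact Submodule.smul_mem _ c (FF.one_mem_L hzC)
    rcases eq_or_ne (y - algebraMap k F c) 0 with h0 | h0
    · rw [h0]; exact zero_mem _
    refine (FF.mem_L_iff_ord h0).2 fun Q => ?_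
    have h1 := (FF.mem_L_iff_ord h0).1 hyC Q
    have h2 := hE0 Q
    have h3 := hEG Q
    rw [hG, FF.conorm_apply hKS _ (hπ Q)] at h3
    rw [Finsupp.sub_apply]
    rw [Finsupp.coe_zero, Pi.zero_apply] at h2
    rcases eq_or_ne (π Q) p with he | he
    · have hsc : s - algebraMap k S c ≠ 0 := fun h => h0 (congrArg Subtype.val h)
      have hval : Q.ord (y - algebraMap k F c) = ramIdx Q (π Q) * (π Q).ord (s - algebraMap k S c) :=
        FF.ord_of_isOverWith (FF.isOverWith_ramIdx (hπ Q)) (s - algebraMap k S c)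
      rw [he] at hval h3
      rw [Finsupp.single_eq_same, mul_one] at h3
      have hC := hCp Q (he ▸ hπ Q)
      have hord : (-1 : ℤ) ≥ -p.ord (s - algebraMap k S c) := by
        have := (FF.v_le_exp_iff p hsc).1 ((FF.v_lt_one_iff_le_exp _ _).1 hc)
        omega
      have : (ramIdx Q p : ℤ) * 1 ≤ ramIdx Q p * p.ord (s - algebraMap k S c) :=
        mul_le_mul_of_nonneg_left (by omega) (Int.natCast_nonneg _)
      omega
    · rw [Finsupp.single_eq_of_ne he, mul_zero] at h3
      omega
  have := rr' E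
  omega

end One

section Two

variable {K₁ K₂ K : Type v} [Field K] [Field K₁] [Field K₂] [Algebra k K] [Algebra k K₁] [Algebra k K₂]
  [Algebra K₁ K] [Algebra K₂ K] [IsScalarTower k K₁ K] [IsScalarTower k K₂ K]
  [FiniteDimensional K₁ K] [FiniteDimensional K₂ K]

/-- The hyperelliptic pencil on the quotient curves. -/
theorem exists_g12_of_eq (hK : IsFunctionField k K) (h₁ : IsFunctionField k K₁) (h₂ : IsFunctionField k K₂)
    (d₁ : Module.finrank K₁ K = 2) (d₂ : Module.finrank K₂ K = 2)
    (hne : (IsScalarTower.toAlgHom k K₁ K).fieldRange ≠ (IsScalarTower.toAlgHom k K₂ K).fieldRange)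
    (hg : 1 ≤ genus k K₂) (hK₁ : genus k K = 2 * genus k K₁ + 2 * genus k K₂ + 1) :
    ∃ E : Divisor k K₂, E.deg = 2 ∧ 2 ≤ ell E := by
  classical
  haveI := FF.infinite_places h₁
  obtain ⟨P⟩ := (inferInstance : Nonempty (Place k K₁))
  refine exists_g12 h₂ hg _ (inter_ne_top d₁ d₂ hne) fun A hA hAd y hy => by_contra fun hyS => ?_
  have h := (pencil_span hK h₁ h₂ d₁ d₂ hA hy hyS
    (B := Finsupp.single P ((2 * genus k K₁ + 2 * genus k K + 2 : ℕ) : ℤ))
    (Finsupp.single_nonneg.2 (Int.natCast_nonneg _)) (by rw [FF.deg_single_ac h₁]; push_cast; rfl)).1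
  omega

/-- No divisor of degree two lies in a fibre of both maps. -/
theorem not_common (hK : IsFunctionField k K) (h₁ : IsFunctionField k K₁) (h₂ : IsFunctionField k K₂)
    (d₁ : Module.finrank K₁ K = 2) (d₂ : Module.finrank K₂ K = 2)
    (hne : (IsScalarTower.toAlgHom k K₁ K).fieldRange ≠ (IsScalarTower.toAlgHom k K₂ K).fieldRange)
    (hK₁ : genus k K = 2 * genus k K₁ + 2 * genus k K₂ + 1)
    (E : Divisor k K) (hE : E.deg = 2) (P₁ : Place k K₁) (P₂ : Place k K₂)
    (hE₁ : E ≤ conorm K (Finsupp.single P₁ (1 : ℤ))) (hE₂ : E ≤ conorm K (Finsupp.single P₂ (1 : ℤ))) : False := by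
  classical
  obtain ⟨A, y, hA, hAP, hAd, hy, hyS⟩ := exists_notMem h₂ _ (inter_ne_top d₁ d₂ hne) P₂
  obtain ⟨P₀, hP₀⟩ := FF.exists_place_ne h₁ P₁
  set n : ℕ := 2 * genus k K₁ + 2 * genus k K + 2
  have hB : (0 : Divisor k K₁) ≤ Finsupp.single P₀ (n : ℤ) := Finsupp.single_nonneg.2 (Int.natCast_nonneg _)
  set B : Divisor k K₁ := Finsupp.single P₀ (n : ℤ) with hBdef
  have hBd : B.deg = n := FF.deg_single_ac h₁ _ _
  have hBP : B P₁ = 0 := Finsupp.single_eq_of_ne hP₀.symm
  have hspan := (pencil_span hK h₁ h₂ d₁ d₂ hA hy hyS hB (by omega)).2 (by omega)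
  obtain ⟨c, hc⟩ := exists_sub_const h₂ P₂ hA hAP hy
  have hc' : algebraMap K₂ K y - algebraMap k K c ∈ L (conorm K A - E) := by
    have h := mem_conorm (K := K) h₂ hc
    rw [sub_eq_add_neg A, FF.conorm_add h₂, map_sub, ← IsScalarTower.algebraMap_apply k K₂ K] at h
    refine FF.L_mono ?_ h
    have : conorm K (-Finsupp.single P₂ (1 : ℤ)) = -conorm K (Finsupp.single P₂ (1 : ℤ)) := by
      rw [eq_neg_iff_add_eq_zero, ← FF.conorm_add h₂, neg_add_cancel]
      simp [conorm]
    rw [this, sub_eq_add_neg]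
    exact add_le_add_right (neg_le_neg hE₂) _
  have hsub : ∀ a ∈ L B, ∃ α : k, algebraMap K₁ K a - algebraMap k K α ∈ L (conorm K B - E) := fun a ha => by
    obtain ⟨α, hα⟩ := exists_sub_const h₁ P₁ hB hBP ha
    refine ⟨α, ?_⟩
    have h := mem_conorm (K := K) h₁ hα
    rw [sub_eq_add_neg B, FF.conorm_add h₁, map_sub, ← IsScalarTower.algebraMap_apply k K₁ K] at h
    refine FF.L_mono ?_ h
    have : conorm K (-Finsupp.single P₁ (1 : ℤ)) = -conorm K (Finsupp.single P₁ (1 : ℤ)) := by
      rw [eq_neg_iff_add_eq_zero, ← FF.conorm_add h₁, neg_add_cancel]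
      simp [conorm]
    rw [this, sub_eq_add_neg]
    exact add_le_add_right (neg_le_neg hE₁) _
  have hle : ell (conorm K B + conorm K A) ≤ ell (conorm K B + conorm K A - E) + 1 := by
    refine ell_le_of_const hK fun f hf => ?_
    obtain ⟨a, ha, b, hb, rfl⟩ := hspan f hf
    obtain ⟨α, hα⟩ := hsub a ha
    obtain ⟨β, hβ⟩ := hsub b hb
    refine ⟨α + β * c, ?_⟩
    have hB0 := conorm_nonneg (K := K) h₁ hB
    have hA0 := conorm_nonneg (K := K) h₂ hA
    have t1 : algebraMap K₁ K a - algebraMap k K α ∈ L (conorm K B + conorm K A - E) :=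
      FF.L_mono (sub_le_sub_right (le_add_of_nonneg_right hA0) E) hα
    have t2 : (algebraMap K₁ K b - algebraMap k K β) * algebraMap K₂ K y ∈ L (conorm K B + conorm K A - E) := by
      have := FF.mul_mem_L hβ (mem_conorm (K := K) h₂ hy)
      rwa [sub_add_eq_add_sub] at this
    have t3 : algebraMap k K β * (algebraMap K₂ K y - algebraMap k K c) ∈ L (conorm K B + conorm K A - E) := by
      rw [← Algebra.smul_def]
      exact Submodule.smul_mem _ β (FF.L_mono (sub_le_sub_right (le_add_of_nonneg_left hB0) E) hc')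
    have hsum := add_mem (add_mem t1 t2) t3
    rwa [show algebraMap K₁ K a + algebraMap K₁ K b * algebraMap K₂ K y - algebraMap k K (α + β * c) =
      algebraMap K₁ K a - algebraMap k K α + (algebraMap K₁ K b - algebraMap k K β) * algebraMap K₂ K y +
        algebraMap k K β * (algebraMap K₂ K y - algebraMap k K c) by rw [map_add, map_mul]; ring]
  have hd : (conorm K B + conorm K A).deg = 2 * (n : ℤ) + 2 * (genus k K₂ + 1) := by
    rw [FF.deg_add, FF.deg_conorm h₁, FF.deg_conorm h₂, d₁, d₂, hBd, hAd]; push_cast; rfl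
  have e1 := FF.ell_of_deg_large hK (D := conorm K B + conorm K A) (by omega)
  have e2 := FF.ell_of_deg_large hK (D := conorm K B + conorm K A - E) (by rw [FF.deg_sub, hE, hd]; omega)
  rw [FF.deg_sub, hE] at e2
  omega

end Two

end Groth.Agent.CastSeveriLib
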