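import Groth.Agent.CastSeveriLib.Curve

/-!
# Genus-zero subfields of index two are unique
-/

set_option autoImplicit false
set_option linter.style.haveILetI false
set_option maxHeartbeats 1000000

noncomputable section

namespace Groth.Agent.CastSeveriLib

open FunFld
open scoped WithZero IntermediateField

universe u v

variable {k : Type u} [Field k]

section One

variable {F K : Type v} [Field F] [Field K] [Algebra k F] [Algebra k K] [Algebra F K] [IsScalarTower k F K]
  [FiniteDimensional F K]

/-- Conorm preserves Riemann–Roch spaces over any field. -/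
theorem mem_conorm' (hF : IsFunctionField k F) {D : Divisor k F} {a : F} (ha : a ∈ L D) :
    algebraMap F K a ∈ L (conorm K D) := by
  rcases eq_or_ne a 0 with rfl | ha0
  · rw [map_zero]; exact zero_mem _
  · refine (FF.mem_L_iff_ord ((_root_.map_ne_zero _).2 ha0)).2 fun Q => ?_
    obtain ⟨P', hP'⟩ := FF.exists_isOver hF Q
    rw [FF.conorm_apply hF _ hP', FF.ord_of_isOverWith (FF.isOverWith_ramIdx hP'), ← mul_add]
    exact mul_nonneg (Int.natCast_nonneg _) ((FF.mem_L_iff_ord ha0).1 ha P')

end One

/-- An effective divisor of degree two with three sections on a function field of genus zero. -/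
theorem exists_deg_two {F : Type v} [Field F] [Algebra k F] (hF : IsFunctionField k F) (hg : genus k F = 0) :
    ∃ D : Divisor k F, 0 ≤ D ∧ D.deg = 2 ∧ ell D = 3 := by
  obtain ⟨C, hC⟩ := FF.exists_canonical hF
  obtain ⟨-, hCd⟩ := FF.canonical_deg hF hC
  have h := FF.ell_of_deg_large hF (D := -C) (by rw [← zero_sub C, FF.deg_sub, FF.deg_zero]; omega)
  rw [← zero_sub C, FF.deg_sub, FF.deg_zero] at h
  obtain ⟨z, hz, hzL⟩ := FF.exists_ne_zero_of_ell_pos (D := -C) (by rw [← zero_sub C]; omega)
  refine ⟨-C + div k z, FF.le_add_div_of_mem_L hF hz hzL, ?_, ?_⟩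
  · rw [FF.deg_add, FF.deg_div hF, ← zero_sub C, FF.deg_sub, FF.deg_zero]; omega
  · rw [FF.ell_add_div hF _ hz, ← zero_sub C]; omega

variable {K₁ K₂ K : Type v} [Field K] [Field K₁] [Field K₂] [Algebra k K] [Algebra k K₁] [Algebra k K₂]
  [Algebra K₁ K] [Algebra K₂ K] [IsScalarTower k K₁ K] [IsScalarTower k K₂ K]
  [FiniteDimensional K₁ K] [FiniteDimensional K₂ K]

/-- A function with few poles lies in every subfield of index two of genus zero. -/
theorem mem_of_poles (hK : IsFunctionField k K) (h₁ : IsFunctionField k K₁) (d₁ : Module.finrank K₁ K = 2)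
    (g₁ : genus k K₁ = 0) {A : Divisor k K} (hA : 0 ≤ A) {y : K} (hy : y ∈ L A)
    (hd : A.deg ≤ genus k K) : y ∈ (IsScalarTower.toAlgHom k K₁ K).fieldRange := by
  by_contra hyS
  obtain ⟨D, hD0, hDd, hDl⟩ := exists_deg_two h₁ g₁
  set m := genus k K + 1
  let B : Divisor k K₁ := (m : ℤ) • D
  have hBd : B.deg = 2 * m := by rw [FF.deg_smul, hDd]; ring
  haveI := FF.finite_L h₁ B
  haveI := FF.finite_L hK (conorm K B + A)
  let φ : L B × L B →ₗ[k] L (conorm K B + A) :=
    { toFun := fun p => ⟨algebraMap K₁ K p.1.1 + algebraMap K₁ K p.2.1 * y,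
        add_mem (FF.L_mono (le_add_of_nonneg_right hA) (mem_conorm' h₁ p.1.2))
          (FF.mul_mem_L (mem_conorm' h₁ p.2.2) hy)⟩
      map_add' := fun p q => Subtype.ext (by simp only [Prod.fst_add, Prod.snd_add, Submodule.coe_add, map_add]; ring)
      map_smul' := fun c p => Subtype.ext (by
        simp only [Prod.smul_fst, Prod.smul_snd, SetLike.val_smul, RingHom.id_apply, smul_add, Algebra.smul_def, map_mul,
          ← IsScalarTower.algebraMap_apply k K₁ K]
        ring) }
  have hinj : Function.Injective φ := (injective_iff_map_eq_zero φ).2 fun p hp => by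
    have h : algebraMap K₁ K p.1.1 + algebraMap K₁ K p.2.1 * y = 0 :=
      congrArg (fun t : L (conorm K B + A) => (t : K)) hp
    have hb : (p.2.1 : K₁) = 0 := by
      by_contra hb
      refine hyS ⟨-(p.1.1 / p.2.1), ?_⟩
      show algebraMap K₁ K _ = y
      rw [map_neg, map_div₀, ← neg_div, div_eq_iff ((_root_.map_ne_zero _).2 hb)]
      linear_combination -h
    rw [hb, map_zero, zero_mul, add_zero, map_eq_zero] at h
    exact Prod.ext (Subtype.ext h) (Subtype.ext hb)
  have hfr := LinearMap.finrank_le_finrank_of_injective hinj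
  rw [Module.finrank_prod] at hfr
  have e1 := FF.ell_of_deg_large h₁ (D := B) (by omega)
  have hA' := FF.deg_nonneg hA
  have e2 := FF.ell_of_deg_large hK (D := conorm K B + A) (by
    rw [FF.deg_add, FF.deg_conorm h₁, d₁]; push_cast; omega)
  rw [FF.deg_add, FF.deg_conorm h₁, d₁] at e2
  simp only [ell] at *
  push_cast at *
  omega

/-- In genus at least three the sections of degree two lie in the other subfield. -/
theorem mem_of_deg_two (hK : IsFunctionField k K) (h₁ : IsFunctionField k K₁) (h₂ : IsFunctionField k K₂)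
    (d₁ : Module.finrank K₁ K = 2) (d₂ : Module.finrank K₂ K = 2) (g₁ : genus k K₁ = 0)
    (hg : 3 ≤ genus k K) {D : Divisor k K₂} (hD0 : 0 ≤ D) (hDd : D.deg = 2) (hDl : ell D = 3) :
    ∀ z ∈ L D, algebraMap K₂ K z ∈ (IsScalarTower.toAlgHom k K₁ K).fieldRange := by
  classical
  by_contra hno
  push Not at hno
  obtain ⟨z, hzD, hyS⟩ := hno
  set y := algebraMap K₂ K z
  obtain ⟨D₁, hD₁0, hD₁d, hD₁l⟩ := exists_deg_two h₁ g₁
  set m := genus k K + 1
  let B : Divisor k K₁ := (m : ℤ) • D₁
  have hB0 : 0 ≤ B := fun P => by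
    rw [Finsupp.coe_zero, Pi.zero_apply, show B P = (m : ℤ) * D₁ P from rfl]
    exact mul_nonneg (Int.natCast_nonneg _) (hD₁0 P)
  have hBd : B.deg = 2 * m := by rw [FF.deg_smul, hD₁d]; ring
  haveI := FF.finite_L h₁ B
  haveI := FF.finite_L hK (conorm K B + conorm K D)
  haveI := FF.finite_L h₂ D
  have hc0 : 0 ≤ conorm K D := conorm_nonneg h₂ hD0
  have hin : ∀ a ∈ L B, ∀ w ∈ L D, algebraMap K₁ K a * algebraMap K₂ K w ∈ L (conorm K B + conorm K D) :=
    fun a ha w hw => FF.mul_mem_L (mem_conorm' h₁ ha) (mem_conorm' h₂ hw)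
  let φ : L B × L B →ₗ[k] L (conorm K B + conorm K D) :=
    { toFun := fun p => ⟨algebraMap K₁ K p.1.1 + algebraMap K₁ K p.2.1 * y,
        add_mem (FF.L_mono (le_add_of_nonneg_right hc0) (mem_conorm' h₁ p.1.2)) (hin _ p.2.2 _ hzD)⟩
      map_add' := fun p q => Subtype.ext (by simp only [Prod.fst_add, Prod.snd_add, Submodule.coe_add, map_add]; ring)
      map_smul' := fun c p => Subtype.ext (by
        simp only [Prod.smul_fst, Prod.smul_snd, SetLike.val_smul, RingHom.id_apply, smul_add, Algebra.smul_def, map_mul,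
          ← IsScalarTower.algebraMap_apply k K₁ K]
        ring) }
  have hinj : Function.Injective φ := (injective_iff_map_eq_zero φ).2 fun p hp => by
    have h : algebraMap K₁ K p.1.1 + algebraMap K₁ K p.2.1 * y = 0 :=
      congrArg (fun t : L (conorm K B + conorm K D) => (t : K)) hp
    have hb : (p.2.1 : K₁) = 0 := by
      by_contra hb
      refine hyS ⟨-(p.1.1 / p.2.1), ?_⟩
      show algebraMap K₁ K _ = y
      rw [map_neg, map_div₀, ← neg_div, div_eq_iff ((_root_.map_ne_zero _).2 hb)]
      linear_combination -h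
    rw [hb, map_zero, zero_mul, add_zero, map_eq_zero] at h
    exact Prod.ext (Subtype.ext h) (Subtype.ext hb)
  have hfr := LinearMap.finrank_le_finrank_of_injective hinj
  rw [Module.finrank_prod] at hfr
  have e1 := FF.ell_of_deg_large h₁ (D := B) (by omega)
  have e2 := FF.ell_of_deg_large hK (D := conorm K B + conorm K D) (by
    rw [FF.deg_add, FF.deg_conorm h₁, FF.deg_conorm h₂, d₁, d₂]; push_cast; omega)
  rw [FF.deg_add, FF.deg_conorm h₁, FF.deg_conorm h₂, d₁, d₂] at e2
  have hsur := (LinearMap.injective_iff_surjective_of_finrank_eq_finrank (f := φ) (by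
    rw [Module.finrank_prod]
    simp only [ell] at *
    push_cast at *
    omega)).1 hinj
  -- every section is then affine in `y`
  have hcoef : ∀ w ∈ L D, ∃ c d : k, algebraMap K₂ K w = algebraMap k K c + algebraMap k K d * y := by
    intro w hw
    obtain ⟨p₀, hp₀⟩ := hsur ⟨algebraMap K₂ K w,
      FF.L_mono (le_add_of_nonneg_left (conorm_nonneg h₁ hB0)) (mem_conorm' h₂ hw)⟩
    have hw0 : algebraMap K₁ K p₀.1.1 + algebraMap K₁ K p₀.2.1 * y = algebraMap K₂ K w := congrArg Subtype.val hp₀
    set p := (p₀.1.1 : K₁)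
    set q := (p₀.2.1 : K₁)
    have hpq : ∀ a ∈ L B, a * p ∈ L B ∧ a * q ∈ L B := by
      intro a ha
      obtain ⟨r, hr⟩ := hsur ⟨algebraMap K₁ K a * algebraMap K₂ K w, hin a ha w hw⟩
      have hr' : algebraMap K₁ K r.1.1 + algebraMap K₁ K r.2.1 * y = algebraMap K₁ K a * algebraMap K₂ K w :=
        congrArg Subtype.val hr
      have hq : r.2.1 = a * q := by
        by_contra hne'
        refine hyS ⟨(a * p - r.1.1) / (r.2.1 - a * q), ?_⟩
        show algebraMap K₁ K _ = y
        rw [map_div₀, div_eq_iff ((_root_.map_ne_zero _).2 (sub_ne_zero.2 hne')), map_sub, map_sub, map_mul, map_mul]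
        rw [← hw0] at hr'
        linear_combination -hr'
      have hp : r.1.1 = a * p := (algebraMap K₁ K).injective (by
        rw [map_mul]
        rw [← hw0, hq, map_mul] at hr'
        linear_combination hr')
      exact ⟨hp ▸ r.1.2, hq ▸ r.2.2⟩
    have hconst : ∀ t : K₁, (∀ a ∈ L B, a * t ∈ L B) → t ∈ Set.range (algebraMap k K₁) := by
      intro t ht
      by_contra hno
      have htr := FF.transcendental_of_not_mem h₁ hno
      have hpow : ∀ n : ℕ, t ^ n ∈ L B := fun n => by
        induction n with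
        | zero => rw [pow_zero]; exact FF.one_mem_L hB0
        | succ n ih => rw [pow_succ]; exact ht _ ih
      have hli : LinearIndependent k (fun n : ℕ => (⟨t ^ n, hpow n⟩ : L B)) := by
        refine LinearIndependent.of_comp (L B).subtype ?_
        have h0 := (Polynomial.basisMonomials k).linearIndependent.map' (Polynomial.aeval t).toLinearMap
          (LinearMap.ker_eq_bot.2 (transcendental_iff_injective.1 htr))
        have e : ⇑(L B).subtype ∘ (fun n : ℕ => (⟨t ^ n, hpow n⟩ : L B)) =
            ⇑(Polynomial.aeval t).toLinearMap ∘ ⇑(Polynomial.basisMonomials k) := funext fun n => by simp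
        rw [e]
        exact h0
      haveI := hli.finite
      exact not_finite ℕ
    obtain ⟨c, hc⟩ := hconst p fun a ha => (hpq a ha).1
    obtain ⟨d, hd⟩ := hconst q fun a ha => (hpq a ha).2
    exact ⟨c, d, by rw [← hw0, ← hc, ← hd, ← IsScalarTower.algebraMap_apply, ← IsScalarTower.algebraMap_apply]⟩
  have hle : L D ≤ Submodule.span k {(1 : K₂), z} := fun w hw => by
    obtain ⟨c, d, hcd⟩ := hcoef w hw
    refine Submodule.mem_span_pair.2 ⟨c, d, (algebraMap K₂ K).injective ?_⟩
    rw [hcd, Algebra.smul_def, Algebra.smul_def, mul_one, map_add, map_mul, ← IsScalarTower.algebraMap_apply,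
      ← IsScalarTower.algebraMap_apply]
  haveI : FiniteDimensional k (Submodule.span k ({(1 : K₂), z} : Set K₂)) :=
    FiniteDimensional.span_of_finite k (Set.toFinite _)
  have h3 := Submodule.finrank_mono hle
  have h4 : Module.finrank k (Submodule.span k ({(1 : K₂), z} : Set K₂)) ≤ 2 := by
    have h5 := finrank_span_finset_le_card (R := k) ({(1 : K₂), z} : Finset K₂)
    rw [Finset.coe_pair] at h5
    exact h5.trans Finset.card_le_two
  simp only [ell] at hDl
  omega

/-- Uniqueness of the genus-zero subfield of index two. -/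
theorem fieldRange_eq (hK : IsFunctionField k K) (h₁ : IsFunctionField k K₁) (h₂ : IsFunctionField k K₂)
    (d₁ : Module.finrank K₁ K = 2) (d₂ : Module.finrank K₂ K = 2) (g₁ : genus k K₁ = 0) (g₂ : genus k K₂ = 0)
    (hg : 2 ≤ genus k K) :
    (IsScalarTower.toAlgHom k K₁ K).fieldRange = (IsScalarTower.toAlgHom k K₂ K).fieldRange := by
  classical
  by_contra hne
  obtain ⟨D, hD0, hDd, hDl⟩ := exists_deg_two h₂ g₂
  rcases eq_or_lt_of_le hg with hg2 | hg3
  · -- the canonical system
    obtain ⟨C₀, hC₀⟩ := FF.exists_canonical hK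
    obtain ⟨hC1, hC2⟩ := FF.canonical_deg hK hC₀
    obtain ⟨z, hz0, hzL⟩ := FF.exists_ne_zero_of_ell_pos (D := C₀) (by omega)
    set A := C₀ + div k z
    have hA0 : 0 ≤ A := FF.le_add_div_of_mem_L hK hz0 hzL
    have hAd : A.deg = 2 := by rw [FF.deg_add, FF.deg_div hK]; omega
    have hAl : ell A = 2 := by rw [FF.ell_add_div hK _ hz0]; omega
    obtain ⟨y, hy, hyc⟩ : ∃ y ∈ L A, y ∉ Set.range (algebraMap k K) := by
      by_contra hall
      push Not at hall
      have hle : L A ≤ Submodule.span k {(1 : K)} := fun w hw => by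
        obtain ⟨c, rfl⟩ := hall w hw
        rw [Algebra.algebraMap_eq_smul_one]
        exact Submodule.smul_mem _ c (Submodule.subset_span rfl)
      haveI : FiniteDimensional k (Submodule.span k {(1 : K)}) := FiniteDimensional.span_singleton k 1
      have h1 := Submodule.finrank_mono hle
      rw [finrank_span_singleton one_ne_zero] at h1
      simp only [ell] at hAl
      omega
    have hy₁ := mem_of_poles hK h₁ d₁ g₁ hA0 hy (by omega)
    have hy₂ := mem_of_poles hK h₂ d₂ g₂ hA0 hy (by omega)
    have htr : Transcendental k y := FF.transcendental_of_not_mem hK hyc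
    haveI := FF.finiteDimensional_adjoin hK htr
    have hy0 : y ≠ 0 := fun h => hyc (h ▸ ⟨0, map_zero _⟩)
    have hle : FF.zeros (k := k) y⁻¹ ≤ A := fun Q => by
      rw [FF.zeros_apply hK, FF.ord_inv]
      have := (FF.mem_L_iff_ord hy0).1 hy Q
      have h2 := hA0 Q
      rw [Finsupp.coe_zero, Pi.zero_apply] at h2
      omega
    have hdz := FF.deg_zeros hK (x := y⁻¹) (fun h => htr (by simpa using h.inv))
    rw [FF.adjoin_inv] at hdz
    have hdle := FF.deg_mono hle
    rw [hdz, hAd] at hdle
    have hsub : ∀ (M : IntermediateField k K), y ∈ M → 2 ≤ Module.finrank M K → k⟮y⟯ = M := fun M hyM hM => by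
      have hle : k⟮y⟯ ≤ M := by rw [IntermediateField.adjoin_le_iff, Set.singleton_subset_iff]; exact hyM
      exact IntermediateField.eq_of_le_of_finrank_le' hle (by omega)
    have hfr : ∀ {F : Type v} [Field F] [Algebra k F] [Algebra F K] [IsScalarTower k F K],
        Module.finrank (IsScalarTower.toAlgHom k F K).fieldRange K = Module.finrank F K := by
      intro F _ _ _ _
      exact (Algebra.finrank_eq_of_equiv_equiv (AlgEquiv.ofInjectiveField (IsScalarTower.toAlgHom k F K)).toRingEquiv
        (RingEquiv.refl K) (by ext; rfl)).symm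
    exact hne ((hsub _ hy₁ (by rw [hfr, d₁])).symm.trans (hsub _ hy₂ (by rw [hfr, d₂])))
  · have hS := inter_ne_top d₁ d₂ hne
    set S := inter k K₁ K₂ K
    have hmem : ∀ z ∈ L D, z ∈ S := fun z hz => mem_of_deg_two hK h₁ h₂ d₁ d₂ g₁ (by omega) hD0 hDd hDl z hz
    obtain ⟨z, hzD, hzc⟩ : ∃ z ∈ L D, z ∉ Set.range (algebraMap k K₂) := by
      by_contra hall
      push Not at hall
      have hle : L D ≤ Submodule.span k {(1 : K₂)} := fun w hw => by
        obtain ⟨c, rfl⟩ := hall w hw
        rw [Algebra.algebraMap_eq_smul_one]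
        exact Submodule.smul_mem _ c (Submodule.subset_span rfl)
      haveI : FiniteDimensional k (Submodule.span k {(1 : K₂)}) := FiniteDimensional.span_singleton k 1
      have h1 := Submodule.finrank_mono hle
      rw [finrank_span_singleton one_ne_zero] at h1
      simp only [ell] at hDl
      omega
    have hz0 : z ≠ 0 := fun h => hzc (h ▸ ⟨0, map_zero _⟩)
    have htr : Transcendental k z := FF.transcendental_of_not_mem h₂ hzc
    haveI := FF.finiteDimensional_adjoin h₂ htr
    have hle : k⟮z⟯ ≤ S := by rw [IntermediateField.adjoin_le_iff, Set.singleton_subset_iff]; exact hmem z hzD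
    letI : Algebra k⟮z⟯ S := (IntermediateField.inclusion hle).toRingHom.toAlgebra
    haveI : IsScalarTower k⟮z⟯ S K₂ := IsScalarTower.of_algebraMap_eq fun x => rfl
    haveI : FiniteDimensional S K₂ := Module.Finite.of_restrictScalars_finite k⟮z⟯ S K₂
    have hKS := FF.isFunctionField_intermediate h₂ S
    let s : S := ⟨z, hmem z hzD⟩
    have hs0 : s ≠ 0 := fun h => hz0 (congrArg Subtype.val h)
    have hst : Transcendental k s⁻¹ := fun h => htr (by
      have h2 := (h.algebraMap (A := K₂)).inv
      rwa [map_inv₀, inv_inv] at h2)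
    set E := FF.zeros (k := k) s⁻¹
    have hE0 : 0 ≤ E := fun P => by rw [FF.zeros_apply hKS]; exact le_max_right _ _
    have hEle : conorm K₂ E ≤ D := fun Q => by
      obtain ⟨P, hP⟩ := FF.exists_isOver hKS Q
      rw [FF.conorm_apply hKS _ hP, FF.zeros_apply hKS, FF.ord_inv]
      have h1 := (FF.mem_L_iff_ord hz0).1 hzD Q
      have h2 := hD0 Q
      rw [Finsupp.coe_zero, Pi.zero_apply] at h2
      have h3 : Q.ord z = ramIdx Q P * P.ord s := FF.ord_of_isOverWith (FF.isOverWith_ramIdx hP) s
      rcases le_total (-P.ord s) 0 with h | h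
      · rw [max_eq_right h, mul_zero]; exact h2
      · rw [max_eq_left h, mul_neg]; omega
    have hEd : 1 ≤ E.deg := by
      rw [FF.deg_zeros hKS hst]
      haveI := FF.finiteDimensional_adjoin hKS hst
      exact_mod_cast (Module.finrank_pos : 0 < Module.finrank k⟮(s⁻¹ : S)⟯ S)
    have hS2 : 2 ≤ Module.finrank S K₂ := by
      by_contra hlt
      refine hS (eq_top_iff.2 fun x _ => ?_)
      have hpos : 0 < Module.finrank S K₂ := Module.finrank_pos
      have hfr : Module.finrank S K₂ = 1 := by omega
      obtain ⟨c, hc⟩ := (finrank_eq_one_iff_of_nonzero' (1 : K₂) one_ne_zero).1 hfr x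
      rw [← hc, Algebra.smul_def, mul_one]
      exact c.2
    have h5 := FF.deg_mono hEle
    rw [FF.deg_conorm hKS, hDd] at h5
    have h6 : (2 : ℤ) * E.deg ≤ Module.finrank S K₂ * E.deg :=
      mul_le_mul_of_nonneg_right (by exact_mod_cast hS2) (by omega)
    have hEone : E.deg = 1 := by omega
    -- the conorm of the pole divisor is all of `D`
    have hEeq : conorm K₂ E = D := by
      refine le_antisymm hEle fun Q => ?_
      by_contra hlt
      push Not at hlt
      have hd0 : (D - conorm K₂ E).deg ≤ 0 := by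
        rw [FF.deg_sub, FF.deg_conorm hKS, hDd, hEone, mul_one]; omega
      have hle1 : Finsupp.single Q ((D - conorm K₂ E) Q) ≤ D - conorm K₂ E := fun R => by
        rcases eq_or_ne R Q with rfl | hR
        · rw [Finsupp.single_eq_same]
        · rw [Finsupp.single_eq_of_ne hR, Finsupp.sub_apply, sub_nonneg]; exact hEle R
      have h7 := FF.deg_mono hle1
      rw [FF.deg_single] at h7
      have h8 : 1 ≤ (Q.deg : ℤ) := by exact_mod_cast FF.deg_pos h₂ Q
      rw [Finsupp.sub_apply] at h7
      nlinarith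
    have hdimS : (ell E : ℤ) ≤ 2 := (FF.ell_le_deg_add_one hKS hE0).trans (by rw [hEone]; norm_num)
    haveI := FF.finite_L hKS E
    haveI := FF.finite_L h₂ D
    let ψ : L D →ₗ[k] L E :=
      { toFun := fun w => ⟨⟨w.1, hmem w.1 w.2⟩, by
          rcases eq_or_ne (⟨w.1, hmem w.1 w.2⟩ : S) 0 with h0 | h0
          · rw [h0]; exact zero_mem _
          refine (FF.mem_L_iff_ord h0).2 fun P => ?_
          obtain ⟨Q, hQ⟩ := FF.exists_over (K' := K₂) hKS (P := P)
          have h1 := (FF.mem_L_iff_ord (fun h => h0 (Subtype.ext h))).1 w.2 Q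
          have hEQ : D Q = conorm K₂ E Q := by rw [hEeq]
          rw [hEQ, FF.conorm_apply hKS _ hQ,
            show Q.ord (w.1 : K₂) = ramIdx Q P * P.ord (⟨w.1, hmem w.1 w.2⟩ : S) from
              FF.ord_of_isOverWith (FF.isOverWith_ramIdx hQ) (⟨w.1, hmem w.1 w.2⟩ : S), ← mul_add] at h1
          exact nonneg_of_mul_nonneg_right h1 (by exact_mod_cast FF.pos_of_isOverWith (FF.isOverWith_ramIdx hQ))⟩
        map_add' := fun _ _ => rfl
        map_smul' := fun _ _ => rfl }
    have hψ : Function.Injective ψ := fun a b h => Subtype.ext (congrArg (fun t : L E => ((t : S) : K₂)) h)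
    have h9 := LinearMap.finrank_le_finrank_of_injective hψ
    simp only [ell] at *
    omega

end Groth.Agent.CastSeveriLib
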